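import Mathlib

/-! A finite abelian group which is not cyclic has two independent elements of the same prime order. -/

set_option autoImplicit false

namespace Cfsg.Agent.Abelian

/-- A finite noncyclic abelian group has elements `b`, `c` of order `p` with `b ∉ ⟨c⟩`. -/
theorem exists_independent_of_not_isCyclic {G : Type*} [CommGroup G] [Finite G] (h : ¬ IsCyclic G) :
    ∃ (p : ℕ) (b c : G), p.Prime ∧ orderOf b = p ∧ orderOf c = p ∧ b ∉ Subgroup.zpowers c := by
  obtain ⟨a, ha⟩ := Monoid.exists_orderOf_eq_exponent (Monoid.ExponentExists.of_finite (G := G))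
  have hne : Subgroup.zpowers a ≠ ⊤ := fun ht => h
    (isCyclic_iff_exists_zpowers_eq_top.mpr ⟨a, ht⟩)
  obtain ⟨x, hx⟩ : ∃ x, x ∉ Subgroup.zpowers a := by
    by_contra! hc
    exact hne ((Subgroup.eq_top_iff' _).mpr hc)
  set A := Subgroup.zpowers a with hA
  have hox : orderOf (QuotientGroup.mk' A x) ≠ 1 := fun hh =>
    hx ((QuotientGroup.eq_one_iff x).mp (orderOf_eq_one_iff.mp hh))
  obtain ⟨p, hp, hpd⟩ := Nat.exists_prime_and_dvd hox
  obtain ⟨m, hm⟩ := hpd
  set y := x ^ m with hy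
  have hoy : orderOf (QuotientGroup.mk' A y) = p := by
    rw [hy, map_pow]
    have hpos := orderOf_pos (QuotientGroup.mk' A x)
    have hm0 : m ≠ 0 := by
      rintro rfl
      rw [Nat.mul_zero] at hm
      omega
    rw [orderOf_pow' _ hm0, hm, Nat.gcd_eq_right (Dvd.intro_left p rfl),
      Nat.mul_div_cancel _ (Nat.pos_of_ne_zero hm0)]
  have hyA : y ∉ A := fun hh => by
    rw [show QuotientGroup.mk' A y = 1 from (QuotientGroup.eq_one_iff y).mpr hh, orderOf_one] at hoy
    exact hp.ne_one hoy.symm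
  have hye : orderOf y ∣ orderOf a := ha ▸ Monoid.order_dvd_exponent y
  have hpa : p ∣ orderOf a := by
    refine dvd_trans ?_ hye
    rw [← hoy]
    exact orderOf_map_dvd _ y
  obtain ⟨e, he⟩ := hpa
  have he0 : e ≠ 0 := by
    rintro rfl
    have := orderOf_pos a
    omega
  have hypA : y ^ p ∈ A := by
    refine (QuotientGroup.eq_one_iff _).mp ?_
    have h1 := pow_orderOf_eq_one (QuotientGroup.mk' A y)
    rwa [hoy, ← map_pow] at h1
  obtain ⟨k, hk⟩ := hypA
  simp only at hk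
  have hke : a ^ (k * (e : ℤ)) = 1 := by
    rw [zpow_mul, hk, zpow_natCast, ← pow_mul, ← he, ← orderOf_dvd_iff_pow_eq_one]
    exact hye
  have hpk : (p : ℤ) ∣ k := by
    have h1 := orderOf_dvd_iff_zpow_eq_one.mpr hke
    rw [he, Nat.cast_mul] at h1
    exact Int.dvd_of_mul_dvd_mul_right (by exact_mod_cast he0) h1
  obtain ⟨j, hj⟩ := hpk
  have := Fact.mk hp
  refine ⟨p, y * (a ^ j)⁻¹, a ^ e, hp, ?_, ?_, ?_⟩
  · refine orderOf_eq_prime ?_ fun h1 => hyA ?_
    · rw [mul_pow, inv_pow, ← hk, hj, ← zpow_natCast (a ^ j) p, ← zpow_mul, mul_comm (p : ℤ) j,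
        mul_inv_cancel]
    · rw [mul_inv_eq_one.mp h1]
      exact ⟨j, rfl⟩
  · rw [orderOf_pow' _ he0, he, Nat.gcd_eq_right (Dvd.intro_left p rfl),
      Nat.mul_div_cancel _ (Nat.pos_of_ne_zero he0)]
  · intro hmem
    have h2 : Subgroup.zpowers (a ^ e) ≤ A := Subgroup.zpowers_le.mpr (pow_mem (Subgroup.mem_zpowers a) e)
    have h3 := mul_mem (h2 hmem) (zpow_mem (Subgroup.mem_zpowers a) j)
    rw [inv_mul_cancel_right] at h3
    exact hyA h3

end Cfsg.Agent.Abelian
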